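import Groth.Agent.AVCharpoly.Minpoly
import Groth.Agent.H23.MaxAbelian
import Groth.Agent.AVSubLib.DegDet

/-! Endomorphisms of a simple abelian variety. -/

noncomputable section

set_option linter.style.haveILetI false
set_option linter.unusedSectionVars false
set_option maxHeartbeats 1000000
set_option synthInstance.maxHeartbeats 200000

universe u

open CategoryTheory MonoidalCategory CartesianMonoidalCategory MonObj GrpObj AlgebraicGeometry
open scoped TensorProduct

namespace Groth.Agent.AVSimpleLib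

open Groth.Agent

variable {k : Type u} [Field k] {A : Over (Spec (CommRingCat.of k))}
  [GrpObj A] [IsCommMonObj A] [IsProper A.hom] [GeometricallyIntegral A.hom]

/-- The only abelian subvarieties are trivial. -/
abbrev IsSimple (A : Over (Spec (CommRingCat.of k))) [GrpObj A] : Prop :=
  ∀ (B : Over (Spec (CommRingCat.of k))) [GrpObj B] [GeometricallyIntegral B.hom] (i : B ⟶ A) [IsMonHom i]
    [IsClosedImmersion i.left], Subsingleton B.left ∨ IsIso i

/-- A nontrivial endomorphism of a simple abelian variety is surjective. -/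
theorem surjective_of_ne_one (hs : IsSimple A) (f : A ⟶ A) [IsMonHom f] (hf : f ≠ 1) : Surjective f.left := by
  haveI : IsIntegral A.left := GeometricallyIntegral.isIntegral_of_subsingleton A.hom
  obtain ⟨N, iN, j, hj, hjc, hNp, hNg, hr⟩ := H23.MaxAbelian.exists_image f
    ⟨η[A], IsMonHom.one_hom (f := f)⟩
    ⟨μ[A], by rw [IsMonHom.mul_hom (f := f), Hom.mul_def]; congr 1⟩
    ⟨(𝟙 A)⁻¹, by rw [GrpObj.inv_comp, Category.id_comp]⟩
  haveI := hj; haveI := hjc; haveI := hNg
  rcases hs N j with hsub | hiso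
  · exfalso
    refine hf (AVHomForm.eq_one_of_map_genericPoint f ?_)
    have h1 : f.left (genericPoint A.left) ∈ Set.range j.left := hr ▸ ⟨_, rfl⟩
    have h2 : η[A].left (IsLocalRing.closedPoint k) ∈ Set.range j.left := by
      rw [hr]
      refine ⟨η[A].left (IsLocalRing.closedPoint k), ?_⟩
      exact congrArg (fun m : 𝟙_ (Over (Spec (CommRingCat.of k))) ⟶ A => m.left (IsLocalRing.closedPoint k))
        (IsMonHom.one_hom (f := f))
    obtain ⟨a, ha⟩ := h1
    obtain ⟨b, hb⟩ := h2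
    rw [← ha, ← hb, Subsingleton.elim a b]
  · refine ⟨fun y => ?_⟩
    haveI : IsIso j.left := inferInstanceAs (IsIso ((Over.forget _).map j))
    obtain ⟨z, rfl⟩ := j.left.surjective y
    exact hr.le (Set.mem_range_self z)

/-- A nonzero endomorphism of a simple abelian variety divides a positive integer on both sides. -/
theorem exists_mul_eq_natCast (hs : IsSimple A) (φ : EndAV.End A) (hφ : φ ≠ 0) :
    ∃ (ψ : EndAV.End A) (n : ℕ), 0 < n ∧ ψ * φ = n ∧ φ * ψ = n := by
  haveI : Surjective φ.toHom.left := surjective_of_ne_one hs φ.toHom fun h => hφ (EndAV.End.ext h)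
  obtain ⟨g, hg⟩ := TorsPtsLib.exists_dim A
  haveI := (AVDegPoly.isFinite_of_surjective hg hg φ.toHom).1
  obtain ⟨-, -, hpos, ψ, hψ, -, -, -, h1, h2⟩ :=
    AVSubLib.exists_quasiInverse A A φ.toHom (η[A].left (IsLocalRing.closedPoint k))
  refine ⟨EndAV.End.of ψ, _, hpos, EndAV.End.ext ?_, EndAV.End.ext ?_⟩
  · rw [EndAV.End.toHom_mul, EndAV.End.toHom_natCast, EndAV.End.toHom_of]
    exact h1
  · rw [EndAV.End.toHom_mul, EndAV.End.toHom_natCast, EndAV.End.toHom_of]
    exact h2

/-- Every element of the rational endomorphism algebra is a rational multiple of an endomorphism. -/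
theorem exists_toEnd0 (x : EndAV.End0 A) : ∃ (q : ℚ) (φ : EndAV.End A), x = q • EndAV.toEnd0 φ := by
  induction x using TensorProduct.induction_on with
  | zero => exact ⟨0, 0, by simp⟩
  | tmul q φ =>
    exact ⟨q, φ, by rw [EndAV.toEnd0_apply, TensorProduct.smul_tmul', smul_eq_mul, _root_.mul_one]⟩
  | add x y hx hy =>
    obtain ⟨p, φ, rfl⟩ := hx
    obtain ⟨r, ψ, rfl⟩ := hy
    refine ⟨((p.den * r.den : ℕ) : ℚ)⁻¹, (p.num * r.den) • φ + (r.num * p.den) • ψ, ?_⟩
    rw [map_add, map_zsmul, map_zsmul, smul_add]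
    rw [← Int.cast_smul_eq_zsmul ℚ, ← Int.cast_smul_eq_zsmul ℚ, smul_smul, smul_smul]
    congr 2
    · push_cast
      field_simp
      linarith [Rat.mul_den_eq_num p]
    · push_cast
      field_simp
      linarith [Rat.mul_den_eq_num r]

/-- The rational endomorphism algebra of a simple abelian variety is a division algebra. -/
theorem isUnit_of_ne_zero (hs : IsSimple A) (x : EndAV.End0 A) (hx : x ≠ 0) : IsUnit x := by
  obtain ⟨q, φ, rfl⟩ := exists_toEnd0 x
  have hq : q ≠ 0 := fun h => hx (by rw [h, zero_smul])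
  have hφ : φ ≠ 0 := fun h => hx (by rw [h, map_zero, smul_zero])
  obtain ⟨ψ, n, hn, h1, h2⟩ := exists_mul_eq_natCast hs φ hφ
  have hn0 : (n : ℚ) ≠ 0 := Nat.cast_ne_zero.2 hn.ne'
  have hc : ∀ {a b : EndAV.End A}, a * b = n →
      ((n : ℚ)⁻¹ • EndAV.toEnd0 a) * EndAV.toEnd0 b = 1 ∧ EndAV.toEnd0 a * ((n : ℚ)⁻¹ • EndAV.toEnd0 b) = 1 := by
    intro a b hab
    have e : EndAV.toEnd0 a * EndAV.toEnd0 b = (n : EndAV.End0 A) := by rw [← map_mul, hab, map_natCast]
    have e1 : (n : ℚ)⁻¹ • (n : EndAV.End0 A) = 1 := by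
      rw [show (n : EndAV.End0 A) = (n : ℚ) • (1 : EndAV.End0 A) by
        rw [Nat.cast_smul_eq_nsmul, nsmul_one], smul_smul, inv_mul_cancel₀ hn0, one_smul]
    exact ⟨by rw [smul_mul_assoc, e, e1], by rw [mul_smul_comm, e, e1]⟩
  refine ⟨⟨q • EndAV.toEnd0 φ, q⁻¹ • ((n : ℚ)⁻¹ • EndAV.toEnd0 ψ), ?_, ?_⟩, rfl⟩
  · rw [smul_mul_assoc, mul_smul_comm, smul_smul, mul_inv_cancel₀ hq, one_smul]
    exact (hc h2).2
  · rw [smul_mul_assoc, mul_smul_comm, smul_smul, inv_mul_cancel₀ hq, one_smul]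
    exact (hc h1).1

end Groth.Agent.AVSimpleLib
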